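import Cfsg.Agent.Mrg.Omega.NO3S.TwoMid.CubU

section


/-!
# NO-3S, `|V| = 4`, TwoMid-B: (NO), "no over-offender in `O₂(C_{H_a}(r̄))` on `M_a`", for subgroups of `G`

* `Rad V a r Q` : `Q ≤ C(a)` is a 2-group modulo `K_a`, fixes `r` modulo `a`, is normalised by `C(a) ∩ C(r)`;
* `NO V` : for `a ~ r`, `Rad V a r Q`, `A ≤ Q`, `A` elementary abelian modulo `K_a`: `NoOv V a A`;
* `rad_o2` : `Rad V a r (O₂(C_G(W_r)))`; `ws_le_o2_cent` : `W_x ≤ O₂(C_G(W_r))` if `[W_x, W_r] = 1`, `x ~ b ~ r`;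
* `ss V a r` : `{g ∈ C(a) : [W_a, g] ≤ W_a ∩ W_r, [W_a ∩ W_r, g] ≤ ⟨a⟩}`, `rad_ss`.
-/

set_option autoImplicit false
set_option linter.unusedSectionVars false

namespace Cfsg.Agent.Omega.NO3S.TwoMid.Beta

open Subgroup Cfsg Cfsg.Agent.ZN Cfsg.Agent.MinSimple.Geo Cfsg.Agent.Omega.CaseL Cfsg.Agent.Omega.NO3S.TwoOne
  Cfsg.Agent.Omega.NO3S.Pt
open Cfsg.Agent.Omega.NO3S.TypeN (exists_conj_flag)
open Cfsg.Agent.ZN.Block (conj_mem_of_normalizer conj_mem_of_normalizer' le_normalizer_of_forall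
  mem_normalizer_of)

universe u

variable {G : Type u} [Group G]

/-- `Q ≤ C(a)` is a 2-group modulo `K_a`, fixes `r` modulo `a`, and is normalised by `C(a) ∩ C(r)`. -/
structure Rad (V : Subgroup G) (a r : G) (Q : Subgroup G) : Prop where
  le : Q ≤ centralizer ({a} : Set G)
  two : ∀ q ∈ Q, ∃ n : ℕ, q ^ 2 ^ n ∈ kq V a
  fix : ∀ q ∈ Q, q * r * q⁻¹ * r⁻¹ ∈ zpowers a
  nrm : ∀ g : G, g * a = a * g → g * r = r * g → ∀ q ∈ Q, g * q * g⁻¹ ∈ Q

/-- **(NO)** : no over-offender in `O₂(C_{H_a}(r̄))` on `M_a` -/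
def NO (V : Subgroup G) : Prop := ∀ a r : G, Col V a r → a ≠ r → ∀ Q A : Subgroup G, Rad V a r Q → A ≤ Q →
  (∀ x ∈ A, x * x ∈ kq V a) → NoOv V a A

variable {T V : Subgroup G} {z : G} {a b r x : G}

theorem mem_kq_of (h : Fr T V z) (ha : Col V a a) {g : G} (hga : g * a = a * g)
    (hg : ∀ w ∈ ws V a, g * w * g⁻¹ * w⁻¹ ∈ zpowers a) : g ∈ kq V a := by
  refine ⟨mem_centralizer_singleton_iff.mpr hga, hg, fun w hw => ?_⟩
  have haa := h.pt_sq ha
  rcases (mem_zpowers_iff_of_mul_self haa).mp (hg w hw) with e | e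
  · have e1 : g * w * g⁻¹ = w := by rwa [mul_inv_eq_one] at e
    have e2 : g⁻¹ * w * g = w := by
      calc g⁻¹ * w * g = g⁻¹ * (g * w * g⁻¹) * g := by rw [e1]
        _ = w := by group
    rw [e2, mul_inv_cancel]
    exact one_mem _
  · have e1 : g * w * g⁻¹ = a * w := by
      calc g * w * g⁻¹ = (g * w * g⁻¹ * w⁻¹) * w := by group
        _ = a * w := by rw [e]
    have e3 : g⁻¹ * a * g = a := by rw [mul_assoc, ← hga, inv_mul_cancel_left]
    have e2 : g⁻¹ * w * g = a * w := by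
      have e4 : a * (g⁻¹ * w * g) = w := by
        calc a * (g⁻¹ * w * g) = (g⁻¹ * a * g) * (g⁻¹ * w * g) := by rw [e3]
          _ = g⁻¹ * (a * w) * g := by group
          _ = w := by rw [← e1]; group
      calc g⁻¹ * w * g = a * a * (g⁻¹ * w * g) := by rw [haa, one_mul]
        _ = a * w := by rw [mul_assoc, e4]
    rw [e2, mul_inv_cancel_right]
    exact mem_zpowers a

/-- `O₂(C_G(W_r))` -/
theorem rad_o2 [Finite G] (h : Fr T V z) (har : Col V a r) : Rad V a r (o2 (centralizer (ws V r : Set G))) where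
  le := (o2_le _).trans fun c hc => by
    rw [mem_centralizer_singleton_iff]
    exact (mem_centralizer_iff.mp hc a (h.mem_ws_of_col har.symm)).symm
  two := by
    intro q hq
    obtain ⟨n, hn⟩ := isPGroup_o2 (centralizer (ws V r : Set G)) ⟨q, hq⟩
    refine ⟨n, ?_⟩
    have : q ^ 2 ^ n = 1 := congrArg Subtype.val hn
    rw [this]
    exact one_mem _
  fix := by
    intro q hq
    rw [← mem_centralizer_iff.mp (o2_le _ hq) r (h.mem_ws_self har.right), mul_inv_cancel_right, mul_inv_cancel]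
    exact one_mem _
  nrm := by
    intro g _ hgr q hq
    exact conj_mem_of_normalizer (((centralizer_le_normalizer_ws V r).trans
      (normalizer_le_normalizer_centralizer _)).trans (normalizer_le_normalizer_o2 _))
      (mem_centralizer_singleton_iff.mpr hgr) hq

/-- `W_x ≤ O₂(C_G(W_r))` if `x ~ b ~ r`, `[W_x, W_r] = 1` -/
theorem ws_le_o2_cent [Finite G] (h : Two T V z) (hbx : Col V b x) (hbr : Col V b r) (hcom : Com V x r) :
    ws V x ≤ o2 (centralizer (ws V r : Set G)) := by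
  have h5 : centralizer (ws V r : Set G) ≤ centralizer ({b} : Set G) := h.cent_ws_le hbr.symm
  have h6 : ws V x ≤ centralizer (ws V r : Set G) := by
    intro a ha
    rw [mem_centralizer_iff]
    intro b hb
    exact (hcom a ha b hb).symm
  refine le_trans (le_inf (h.ws_le_o2 hbx.symm) h6)
    (le_o2 inf_le_right ((isPGroup_o2 _).to_le inf_le_left) ?_)
  refine le_normalizer_of_forall fun c hc a ha => ?_
  exact ⟨conj_mem_of_normalizer (le_normalizer_o2 _) (h5 hc) ha.1, conj_mem_cent hc ha.2⟩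

/-- `{g ∈ C(a) : [W_a, g] ≤ W_a ∩ W_r, [W_a ∩ W_r, g] ≤ ⟨a⟩}` -/
def Sg (V : Subgroup G) (a r g : G) : Prop := g * a = a * g ∧
  (∀ w ∈ ws V a, g * w * g⁻¹ * w⁻¹ ∈ ws V a ⊓ ws V r) ∧ ∀ w ∈ ws V a ⊓ ws V r, g * w * g⁻¹ * w⁻¹ ∈ zpowers a

/-- the subgroup of the `g` with `Sg V a r g` -/
def ss (h : Fr T V z) (har : Col V a r) : Subgroup G where
  carrier := {g | Sg V a r g}
  mul_mem' := by
    rintro g k ⟨hg1, hg2, hg3⟩ ⟨hk1, hk2, hk3⟩
    have hwa : ∀ g w : G, g * a = a * g → w ∈ ws V a → g * w * g⁻¹ ∈ ws V a := fun g w hg hw =>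
      conj_mem_of_normalizer (centralizer_le_normalizer_ws V a) (mem_centralizer_singleton_iff.mpr hg) hw
    have e : ∀ w : G, g * k * w * (g * k)⁻¹ * w⁻¹ =
        (g * (k * w * k⁻¹) * g⁻¹ * (k * w * k⁻¹)⁻¹) * (k * w * k⁻¹ * w⁻¹) := fun w => by group
    have haz : zpowers a ≤ ws V a ⊓ ws V r := by
      rw [zpowers_le]
      exact ⟨h.mem_ws_self har.left, h.mem_ws_of_col har.symm⟩
    refine ⟨mul_comm_of hg1 hk1, fun w hw => ?_, fun w hw => ?_⟩
    · rw [e]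
      exact mul_mem (hg2 _ (hwa k w hk1 hw)) (hk2 w hw)
    · rw [e]
      refine mul_mem (hg3 _ ?_) (hk3 w hw)
      have := mul_mem (haz (hk3 w hw)) hw
      rwa [inv_mul_cancel_right] at this
  one_mem' := ⟨by simp, fun w _ => by simp [one_mem], fun w _ => by simp⟩
  inv_mem' := by
    rintro g ⟨hg1, hg2, hg3⟩
    have hga : g⁻¹ * a = a * g⁻¹ := inv_comm_of hg1
    have hwa : ∀ w ∈ ws V a, g⁻¹ * w * g ∈ ws V a := fun w hw =>
      conj_mem_of_normalizer' (centralizer_le_normalizer_ws V a) (mem_centralizer_singleton_iff.mpr hg1) hw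
    have e : ∀ w : G, g⁻¹ * w * g⁻¹⁻¹ * w⁻¹ = (g * (g⁻¹ * w * g) * g⁻¹ * (g⁻¹ * w * g)⁻¹)⁻¹ := fun w => by group
    have haz : zpowers a ≤ ws V a ⊓ ws V r := by
      rw [zpowers_le]
      exact ⟨h.mem_ws_self har.left, h.mem_ws_of_col har.symm⟩
    refine ⟨hga, fun w hw => ?_, fun w hw => ?_⟩
    · rw [e]
      exact inv_mem (hg2 _ (hwa w hw))
    · have e2 : g⁻¹ * w * g⁻¹⁻¹ * w⁻¹ = g⁻¹ * (g * w * g⁻¹ * w⁻¹)⁻¹ * g⁻¹⁻¹ * (w * (w⁻¹ * 1 * w) * w⁻¹) := by
        group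
      rw [e2, mul_one, inv_mul_cancel, mul_one, mul_inv_cancel, mul_one,
        TyN.zc (mem_centralizer_singleton_iff.mpr hga) (inv_mem (hg3 w hw))]
      exact inv_mem (hg3 w hw)

theorem mem_ss {h : Fr T V z} {har : Col V a r} {g : G} : g ∈ ss h har ↔ Sg V a r g := Iff.rfl

/-- `K_a ≤ S` -/
theorem kq_le_ss (h : Fr T V z) (har : Col V a r) : kq V a ≤ ss h har := by
  intro k hk
  have haz : zpowers a ≤ ws V a ⊓ ws V r := by
    rw [zpowers_le]
    exact ⟨h.mem_ws_self har.left, h.mem_ws_of_col har.symm⟩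
  exact ⟨mem_centralizer_singleton_iff.mp (kq_le_centralizer V a hk), fun w hw => haz (kq_comm hk hw),
    fun w hw => kq_comm hk hw.1⟩

/-- squares of elements of `S` lie in `K_a` -/
theorem sq_mem_kq (h : Fr T V z) (har : Col V a r) {g : G} (hg : Sg V a r g) : g * g ∈ kq V a := by
  refine mem_kq_of h har.left (mul_comm_of hg.1 hg.1) fun w hw => ?_
  set i := g * w * g⁻¹ * w⁻¹ with hi
  have hi1 := hg.2.1 w hw
  rw [← hi] at hi1
  have hi2 := hg.2.2 i hi1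
  have hii : i * i = 1 := h.ws_sq har.left i hi1.1
  have e1 : g * w * g⁻¹ = i * w := by rw [hi]; group
  have e : g * g * w * (g * g)⁻¹ * w⁻¹ = g * i * g⁻¹ * i⁻¹ := by
    calc g * g * w * (g * g)⁻¹ * w⁻¹ = g * (g * w * g⁻¹) * g⁻¹ * w⁻¹ := by group
      _ = g * (i * w) * g⁻¹ * w⁻¹ := by rw [e1]
      _ = g * i * g⁻¹ * (g * w * g⁻¹) * w⁻¹ := by group
      _ = g * i * g⁻¹ * (i * w) * w⁻¹ := by rw [e1]
      _ = g * i * g⁻¹ * i := by group
      _ = g * i * g⁻¹ * i⁻¹ := by rw [inv_eq_self hii]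
  rw [e]
  exact hi2

theorem rad_ss (h : Fr T V z) (har : Col V a r) : Rad V a r (ss h har) where
  le := fun g hg => mem_centralizer_singleton_iff.mpr hg.1
  two := fun g hg => ⟨1, by rw [pow_one, pow_two]; exact sq_mem_kq h har hg⟩
  fix := fun g hg => hg.2.2 r ⟨h.mem_ws_of_col har, h.mem_ws_self har.right⟩
  nrm := by
    rintro g hga hgr q ⟨hq1, hq2, hq3⟩
    have hga' : g⁻¹ * a = a * g⁻¹ := inv_comm_of hga
    have hgr' : g⁻¹ * r = r * g⁻¹ := inv_comm_of hgr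
    have key : ∀ g : G, g * a = a * g → g * r = r * g → ∀ w ∈ ws V a ⊓ ws V r, g * w * g⁻¹ ∈ ws V a ⊓ ws V r := by
      intro g hga hgr w hw
      exact ⟨conj_mem_of_normalizer (centralizer_le_normalizer_ws V a) (mem_centralizer_singleton_iff.mpr hga) hw.1,
        conj_mem_of_normalizer (centralizer_le_normalizer_ws V r) (mem_centralizer_singleton_iff.mpr hgr) hw.2⟩
    have e : ∀ w : G, g * q * g⁻¹ * w * (g * q * g⁻¹)⁻¹ * w⁻¹ =
        g * (q * (g⁻¹ * w * g⁻¹⁻¹) * q⁻¹ * (g⁻¹ * w * g⁻¹⁻¹)⁻¹) * g⁻¹ := fun w => by group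
    refine ⟨mul_comm_of (mul_comm_of hga hq1) hga', fun w hw => ?_, fun w hw => ?_⟩
    · rw [e]
      refine key g hga hgr _ (hq2 _ ?_)
      exact conj_mem_of_normalizer (centralizer_le_normalizer_ws V a) (mem_centralizer_singleton_iff.mpr hga') hw
    · rw [e, TyN.zc (mem_centralizer_singleton_iff.mpr hga) (hq3 _ (key g⁻¹ hga' hgr' w hw))]
      exact hq3 _ (key g⁻¹ hga' hgr' w hw)

end Cfsg.Agent.Omega.NO3S.TwoMid.Beta

end

section


/-!
# NO-3S, `|V| = 4`, TwoMid-B: (NO) implies that (D)(β) is dead (helper711 #18281, helper786 #18608), steps (1)-(8)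

`Bt T V z a r b x f` : `(a, b)` critical with middle `r`, `x ~ b`, `f ∈ W_a` moves `x`, `W_x ∩ W_{x^f} ≤ W_b`,
`[W_x, W_r] = 1`, (NO).

* `tri` : `p ~ q`, `p ~ u`, `u ∈ W_q` implies `q ~ u`;
* `Bt.one` (1), `Bt.cent_of_comm` (2): `C_{W_x}(f) ≤ C(W_a)`;
* `Bt.fix` (3): `C_{M_a}(T) = ⟨r̄⟩`, `Bt.nb` : `N_p = ⟨p⟩` for all points, `Bt.mem_of_cent` : `C_{M_p}(C_G(W_q)) = Ī_pq`;
* `Bt.rr_le` (4) `D_ab ≤ W_a ∩ W_r`; `Bt.five` (5) `[x, f'] ∉ W_x`; `Bt.six` (6) `[W_x, W_{x^{f'}}] = 1`, `Bt.six'`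
  `[W_x, W_a] ≤ W_r`; `Bt.seven` (7) `|W_x ∩ W_r| ≤ |C_{W_x}(f)|`;
* `Bt.eight` (8): elements of `W_a` which commute with `w₀ ∈ (W_x ∩ K_a) - C(f)` commute with `x`.
-/

set_option autoImplicit false
set_option linter.unusedSectionVars false

namespace Cfsg.Agent.Omega.NO3S.TwoMid.Beta

open Subgroup Cfsg Cfsg.Agent.ZN Cfsg.Agent.MinSimple.Geo Cfsg.Agent.Omega.CaseL Cfsg.Agent.Omega.NO3S.TwoOne
  Cfsg.Agent.Omega.NO3S.Pt
open Cfsg.Agent.Omega.NO3S.Dual (nn mem_nn DW mem_sup_of_comm)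
open Cfsg.Agent.Omega.NO3S.TypeN (exists_conj_flag)
open Cfsg.Agent.ZN.Block (conj_mem_of_normalizer conj_mem_of_normalizer' le_normalizer_of_forall
  mem_normalizer_of)

universe u

variable {G : Type u} [Group G] {T V : Subgroup G} {z : G} {a b f p q r u x : G}

/-- `p ~ q`, `p ~ u`, `u ∈ W_q` implies `q ~ u` -/
theorem tri [Finite G] (h : Fr T V z) (hpq : Col V p q) (hpu : Col V p u) (hu : u ∈ ws V q) : Col V q u := by
  have hu1 := hpu.symm.ne_one
  by_cases hne : p = q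
  · rw [← hne]; exact hpu
  obtain ⟨g, hp, hq, hp1, hq1⟩ := hpq
  by_cases hug : u ∈ cj g V
  · exact ⟨g, hq, hug, hq1, hu1⟩
  · have hii := h.mem_ii_cj hp hp1 hq hq1 (Ne.symm hne) (h.mem_ws_of_col hpu) hu
    obtain ⟨c, -, hcu, hcp⟩ := h.ftwo_cj hii hug hp hp1 hq hq1
    have := hpu.conj c
    rwa [hcp, hcu, mul_inv_cancel_right] at this

theorem card_mul_relIndex {H K : Subgroup G} (h : H ≤ K) : Nat.card H * H.relIndex K = Nat.card K := by
  rw [Subgroup.relIndex, ← Nat.card_congr (Subgroup.subgroupOfEquivOfLe h).toEquiv]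
  exact Subgroup.card_mul_index _

/-- `|K H| |K ∩ H| = |K| |H|` -/
theorem card_sup_mul [Finite G] {K H : Subgroup G} (h : H ≤ normalizer (K : Set G)) :
    Nat.card (K ⊔ H : Subgroup G) * Nat.card (K ⊓ H : Subgroup G) = Nat.card K * Nat.card H := by
  have hKn : (K.subgroupOf (K ⊔ H)).Normal :=
    normal_subgroupOf_of_le_normalizer (sup_le le_normalizer h)
  have h1 := relIndex_sup_left (H.subgroupOf (K ⊔ H)) (K.subgroupOf (K ⊔ H))
  rw [← Subgroup.subgroupOf_sup le_sup_left le_sup_right, Subgroup.subgroupOf_self,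
    Subgroup.relIndex_subgroupOf le_sup_right, relIndex_top_right] at h1
  have h2 : Nat.card K * K.relIndex H = Nat.card (K ⊔ H : Subgroup G) := by
    rw [← h1]
    exact card_mul_relIndex le_sup_left
  have h3 : Nat.card (K ⊓ H : Subgroup G) * K.relIndex H = Nat.card H := by
    rw [← Subgroup.inf_relIndex_right K H]
    exact card_mul_relIndex inf_le_right
  calc _ = Nat.card (K ⊔ H : Subgroup G) * Nat.card (K ⊓ H : Subgroup G) := rfl
    _ = Nat.card K * (Nat.card (K ⊓ H : Subgroup G) * K.relIndex H) := by rw [← h2]; ring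
    _ = _ := by rw [h3]

/-- **the situation (D)(β)** -/
structure Bt (T V : Subgroup G) (z a r b x f : G) : Prop extends Mid T V z a r b where
  bx : Col V b x
  fm : f ∈ ws V a
  xf : f * x * f⁻¹ ≠ x
  D : ws V x ⊓ ws V (f * x * f⁻¹) ≤ ws V b
  com : Com V x r
  no : NO V

namespace Bt

variable [Finite G] (h : Bt T V z a r b x f)
include h

theorem aa : a * a = 1 := h.fr.pt_sq h.pr.left

theorem ne_xb : x ≠ b := by
  rintro rfl
  apply h.xf
  have h1 := h.symm.cent h.fm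
  rw [mem_centralizer_singleton_iff] at h1
  rw [h1, mul_inv_cancel_right]

theorem xa : ∀ y ∈ ws V x, y * a = a * y := fun y hy => h.com y hy a (h.fr.mem_ws_of_col h.pr.symm)

theorem ws_le_P : ws V x ≤ o2 (centralizer (ws V r : Set G)) := ws_le_o2_cent h.toTwo h.bx h.rq.symm h.com

/-- (1) -/
theorem one : cmod V a (ws V x) = ws V a ⊓ ws V r ∧
    (∀ y ∈ ws V x, y * f * y⁻¹ * f⁻¹ ∈ zpowers a → y ∈ kq V a) ∧
    (ws V x ⊓ kq V a).relIndex (ws V x) = (ws V a ⊓ ws V r).relIndex (ws V a) ∧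
    (ws V x ⊓ centralizer ({f} : Set G)).relIndex (ws V x) = 2 * (ws V b ⊓ ws V x).relIndex (ws V x) := by
  refine beta h.toMid h.bx h.fm h.xf h.D h.com (h.no a r h.pr h.ne_pr _ _ (rad_o2 h.fr h.pr) h.ws_le_P fun y hy => ?_)
  rw [h.fr.ws_sq h.bx.right y hy]
  exact one_mem _

/-- `{w ∈ W_a : [w, W_x] ≤ ⟨a⟩} = W_a ∩ W_r` -/
theorem mem_of_cmod {w : G} (hw : w ∈ ws V a) (hc : ∀ y ∈ ws V x, y * w * y⁻¹ * w⁻¹ ∈ zpowers a) :
    w ∈ ws V a ⊓ ws V r := by
  rw [← h.one.1, mem_cmod h.fr h.pr.left]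
  exact ⟨hw, hc⟩

theorem mem_of_comm {w : G} (hw : w ∈ ws V a) (hc : ∀ y ∈ ws V x, y * w = w * y) : w ∈ ws V a ⊓ ws V r := by
  refine h.mem_of_cmod hw fun y hy => ?_
  rw [hc y hy, mul_inv_cancel_right, mul_inv_cancel]
  exact one_mem _

/-- (2) `C_{W_x}(f) ≤ K_a` -/
theorem mem_kq_of_comm {y : G} (hy : y ∈ ws V x) (hyf : y * f = f * y) : y ∈ kq V a := by
  refine h.one.2.1 y hy ?_
  rw [hyf, mul_inv_cancel_right, mul_inv_cancel]
  exact one_mem _

theorem mem_b_of_comm {y : G} (hy : y ∈ ws V x) (hyf : y * f = f * y) : y ∈ ws V b :=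
  h.D (fix_le V x f ⟨hy, mem_centralizer_singleton_iff.mpr hyf⟩)

/-- (2) `C_{W_x}(f) ≤ C(W_a)` -/
theorem cent_of_comm {y : G} (hy : y ∈ ws V x) (hyf : y * f = f * y) : y ∈ centralizer (ws V a : Set G) :=
  h.cent_of_kq (h.mem_b_of_comm hy hyf) (h.mem_kq_of_comm hy hyf)

/-- `|W_x ∩ K_a| = 2 |C_{W_x}(f)|` -/
theorem card_L : Nat.card (ws V x ⊓ kq V a : Subgroup G) =
    2 * Nat.card (ws V x ⊓ centralizer ({f} : Set G) : Subgroup G) := by
  obtain ⟨-, -, h3, h4⟩ := h.one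
  have h5 : (ws V b ⊓ ws V x).relIndex (ws V x) = (ws V a ⊓ ws V r).relIndex (ws V a) := by
    have := relIndex_const h.fr h.bx h.ne_xb h.pr.symm h.ne_pr
    rwa [inf_comm (ws V r) (ws V a)] at this
  have e1 := card_mul_relIndex (inf_le_left : ws V x ⊓ kq V a ≤ ws V x)
  have e2 := card_mul_relIndex (inf_le_left : ws V x ⊓ centralizer ({f} : Set G) ≤ ws V x)
  rw [h3, ← h5, ← e2, h4] at e1
  have hpos : 0 < (ws V b ⊓ ws V x).relIndex (ws V x) := Nat.pos_of_ne_zero index_ne_zero_of_finite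
  refine Nat.eq_of_mul_eq_mul_right hpos ?_
  rw [e1]
  ring

/-- (2) `w₀ ∈ W_x ∩ K_a`, `[w₀, f] ≠ 1` -/
theorem exists_w : ∃ w ∈ ws V x, w ∈ kq V a ∧ w * f ≠ f * w := by
  by_contra hcon
  push Not at hcon
  have h1 : ws V x ⊓ kq V a ≤ ws V x ⊓ centralizer ({f} : Set G) := fun w hw =>
    ⟨hw.1, mem_centralizer_singleton_iff.mpr (hcon w hw.1 hw.2)⟩
  have h2 := Subgroup.card_le_of_le h1
  rw [h.card_L] at h2
  have h3 : 0 < Nat.card (ws V x ⊓ centralizer ({f} : Set G) : Subgroup G) := Nat.card_pos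
  omega

/-! ### (3) -/

/-- the flag `(a, V_ar)` -/
theorem flag : ∃ g k, a ∈ cj g V ∧ r ∈ cj g V ∧ cj k V = cj g V ∧ k * z * k⁻¹ = a ∧ Fr (cj k T) (cj g V) a := by
  obtain ⟨g, ha, hr, ha1, -⟩ := h.pr
  obtain ⟨k, hk⟩ := h.fr.flag ha ha1
  exact ⟨g, k, ha, hr, hk⟩

/-- `W_x ≤ T'` -/
theorem ws_le_T {g k : G} (hr : r ∈ cj g V) (hf : Fr (cj k T) (cj g V) a) : ws V x ≤ cj k T := by
  have h1 : o2 (centralizer (ws V r : Set G)) ≤ o2 (centralizer ((cj g V : Subgroup G) : Set G)) := by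
    refine le_o2 ((o2_le _).trans (centralizer_le (h.fr.line_le_ws hr))) (isPGroup_o2 _) ?_
    have h2 : centralizer ((cj g V : Subgroup G) : Set G) ≤ centralizer ({r} : Set G) := by
      intro c hc
      rw [mem_centralizer_singleton_iff]
      exact (mem_centralizer_iff.mp hc r hr).symm
    exact ((h2.trans (centralizer_le_normalizer_ws V r)).trans (normalizer_le_normalizer_centralizer _)).trans
      (normalizer_le_normalizer_o2 _)
  have h2 : o2 (centralizer ((cj g V : Subgroup G) : Set G)) ≤ o2 (normalizer ((cj g V : Subgroup G) : Set G)) :=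
    le_o2 ((o2_le _).trans (centralizer_le_normalizer _)) (isPGroup_o2 _)
      ((normalizer_le_normalizer_centralizer _).trans (normalizer_le_normalizer_o2 _))
  exact (h.ws_le_P.trans h1).trans (h2.trans (o2_le_of_sylow hf.ln.T_norm hf.ln.two hf.ln.T_syl'))

/-- (3) `C_{M_a}(T) = ⟨r̄⟩` -/
theorem fix {g k : G} (ha : a ∈ cj g V) (hr : r ∈ cj g V) (hf : Fr (cj k T) (cj g V) a) {m : G} (hm : m ∈ ws V a)
    (hmt : ∀ t ∈ cj k T, t * m * t⁻¹ * m⁻¹ ∈ zpowers a) : m ∈ cj g V := by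
  have h1 := h.mem_of_cmod hm fun y hy => hmt y (h.ws_le_T hr hf hy)
  rw [mem_ii_iff h.fr ha hr h.pr.ne_one h.pr.symm.ne_one h.ne_pr] at h1
  refine (toAb hf).mem_V_of_T h1 fun t ht => ?_
  rcases (mem_zpowers_iff_of_mul_self h.aa).mp (hmt t ht) with e | e
  · left; rwa [mul_inv_eq_one] at e
  · right
    calc t * m * t⁻¹ = (t * m * t⁻¹ * m⁻¹) * m := by group
      _ = a * m := by rw [e]

/-- `N_a = ⟨a⟩` -/
theorem nn_le : nn (ws V a) (kq V a) ≤ zpowers a := by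
  by_contra hne
  obtain ⟨g, k, ha, hr, -, -, hf⟩ := h.flag
  have hTa : cj k T ≤ centralizer ({a} : Set G) := hf.ln.T_le
  have hN : cj k T ≤ normalizer ((nn (ws V a) (kq V a) : Subgroup G) : Set G) :=
    le_normalizer_of_forall fun t ht y hy => nn_conj (hTa ht) hy
  have hA : cj k T ≤ normalizer ((zpowers a : Subgroup G) : Set G) := zpowers_norm hTa
  have hWT : ws V a ≤ cj k T := by
    have := hf.ln.ws_le_T
    rwa [ws_cj] at this
  obtain ⟨m, hm, hma, hmt⟩ := exists_fixed_mod hf.ln.two (inf_le_left.trans hWT) hN hA hne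
  have hmV := h.fix ha hr hf (mem_nn.mp hm).1 hmt
  obtain ⟨s, hs, hs1, hsm⟩ := h.fr.mover_cj ha h.pr.ne_one
  have hm1 : m ≠ 1 := fun e => hma (e ▸ one_mem _)
  have hma' : m ≠ a := fun e => hma (e ▸ mem_zpowers a)
  have h1 := hsm m hmV hm1 hma'
  rw [(mem_nn.mp hm).2 s hs, mul_inv_cancel_right] at h1
  exact h.pr.ne_one (by simpa using h1.symm)

/-- (3) `N_p = ⟨p⟩` for all points -/
theorem nb : NB V := by
  intro p hp
  obtain ⟨g, hg⟩ := h.fr.exists_conj h.pr.left hp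
  intro y hy
  have h1 : g⁻¹ * y * g⁻¹⁻¹ ∈ nn (ws V a) (kq V a) := by
    rw [mem_nn] at hy ⊢
    have e : g⁻¹ * p * g⁻¹⁻¹ = a := by rw [← hg]; group
    refine ⟨?_, fun k hk => ?_⟩
    · have := conj_mem_ws g⁻¹ hy.1
      rwa [e] at this
    · have h2 := conj_mem_kq g hk
      rw [hg] at h2
      have h3 := hy.2 _ h2
      calc k * (g⁻¹ * y * g⁻¹⁻¹) = g⁻¹ * ((g * k * g⁻¹) * y) * g := by group
        _ = g⁻¹ * (y * (g * k * g⁻¹)) * g := by rw [h3]
        _ = g⁻¹ * y * g⁻¹⁻¹ * k := by group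
  have h2 := h.nn_le h1
  rcases (mem_zpowers_iff_of_mul_self h.aa).mp h2 with e | e
  · have : y = g * (g⁻¹ * y * g⁻¹⁻¹) * g⁻¹ := by group
    rw [this, e]
    simp
  · have : y = g * (g⁻¹ * y * g⁻¹⁻¹) * g⁻¹ := by group
    rw [this, e, hg]
    exact mem_zpowers p

/-- (3) `C_{M_p}(C_G(W_q)) = Ī_pq`, for all collinear `p ≠ q` -/
theorem mem_of_cent (hpq : Col V p q) (hne : p ≠ q) {m : G} (hm : m ∈ ws V p)
    (hmc : ∀ u ∈ centralizer (ws V q : Set G), u * m * u⁻¹ * m⁻¹ ∈ zpowers p) : m ∈ ws V q := by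
  obtain ⟨g, hg1, hg2⟩ := exists_conj_flag h.fr hpq.symm hne h.pr.symm h.ne_pr
  have h1 : g * m * g⁻¹ ∈ ws V a ⊓ ws V r := by
    refine h.mem_of_cmod ?_ fun y hy => ?_
    · have := conj_mem_ws g hm
      rwa [hg2] at this
    · have hyc : y ∈ centralizer (ws V r : Set G) := o2_le _ (h.ws_le_P hy)
      have h2 : g⁻¹ * y * g ∈ centralizer (ws V q : Set G) := by
        rw [mem_centralizer_iff] at hyc ⊢
        intro w hw
        have h3 := conj_mem_ws g hw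
        rw [hg1] at h3
        have h4 := hyc _ h3
        calc w * (g⁻¹ * y * g) = g⁻¹ * ((g * w * g⁻¹) * y) * g := by group
          _ = g⁻¹ * (y * (g * w * g⁻¹)) * g := by rw [h4]
          _ = g⁻¹ * y * g * w := by group
      have h3 := hmc _ h2
      have e : y * (g * m * g⁻¹) * y⁻¹ * (g * m * g⁻¹)⁻¹ =
          g * ((g⁻¹ * y * g) * m * (g⁻¹ * y * g)⁻¹ * m⁻¹) * g⁻¹ := by group
      rw [e, ← hg2]
      obtain ⟨n, hn⟩ := mem_zpowers_iff.mp h3
      rw [← hn]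
      exact mem_zpowers_iff.mpr ⟨n, by rw [conj_zpow]⟩
  have h2 := conj_mem_ws g⁻¹ h1.2
  have e1 : g⁻¹ * r * g⁻¹⁻¹ = q := by rw [← hg1]; group
  have e2 : g⁻¹ * (g * m * g⁻¹) * g⁻¹⁻¹ = m := by group
  rwa [e1, e2] at h2

/-! ### (4), (5), (6) -/

/-- (4) `D_ab ≤ W_a ∩ W_r` -/
theorem rr_le_r : rr V a b ≤ ws V a ⊓ ws V r := by
  intro d hd
  have h1 := h.rr_le hd
  exact h.mem_of_comm h1.1 fun y hy => (h.toTwo.com h.bx d h1.2 y hy).symm

theorem x_mem_b : x ∈ ws V b := h.fr.mem_ws_of_col h.bx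

/-- `[x, f'] ∈ D_ab` -/
theorem comm_mem_rr' {f' : G} (hf' : f' ∈ ws V a) : x * f' * x⁻¹ * f'⁻¹ ∈ rr V a b := by
  rw [rr_comm]
  exact comm_mem_rr h.x_mem_b hf'

/-- `x^{f'} = x [x, f']` -/
theorem conj_eq (f' : G) : f' * x * f'⁻¹ = (x * f' * x⁻¹ * f'⁻¹)⁻¹ * x := by
  have e : (x * f' * x⁻¹ * f'⁻¹)⁻¹ * x = f' * x * f'⁻¹ * x⁻¹ * x := by group
  rw [e, inv_mul_cancel_right]

/-- `x^{f'} ~ b` -/
theorem col_conj {f' : G} (hf' : f' ∈ ws V a) : Col V b (f' * x * f'⁻¹) := by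
  have h1 := h.bx.conj f'
  have h2 := mem_centralizer_singleton_iff.mp (h.symm.cent hf')
  rwa [h2, mul_inv_cancel_right] at h1

/-- (5) `[x, f'] ∉ W_x` -/
theorem five {f' : G} (hf' : f' ∈ ws V a) (hne : f' * x ≠ x * f') : x * f' * x⁻¹ * f'⁻¹ ∉ ws V x := by
  intro hc
  set c := x * f' * x⁻¹ * f'⁻¹ with hcdef
  have hcD : c ∈ rr V a b := h.comm_mem_rr' hf'
  have hc1 := h.rr_le hcD
  have hc2 := h.rr_le_r hcD
  have hxx : x ∈ ws V x := h.fr.mem_ws_self h.bx.right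
  have hx'W : f' * x * f'⁻¹ ∈ ws V x := by
    rw [h.conj_eq]
    exact mul_mem (inv_mem hc) hxx
  have h1 : Col V x (f' * x * f'⁻¹) := tri h.fr h.bx (h.col_conj hf') hx'W
  -- `x ~ c`
  have hcn : c ≠ 1 := by
    intro e
    apply hne
    have : x * f' * x⁻¹ * f'⁻¹ * (f' * x) = x * f' := by group
    rw [← hcdef, e, one_mul] at this
    exact this
  have h2 : Col V x c := by
    obtain ⟨g, g1, g2, g3, g4⟩ := h1
    refine ⟨g, g1, ?_, g3, hcn⟩
    have e : c = x * (f' * x * f'⁻¹)⁻¹ := by rw [hcdef]; group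
    rw [e]
    exact mul_mem g1 (inv_mem g2)
  have h3 : Col V b c := tri h.fr h.bx.symm h2 hc1.2
  have h4 : Col V r c := tri h.fr h.rq.symm h3 hc2.2
  have h5 : Col V a c := tri h.fr h.pr.symm h4 hc2.1
  have h6 := h.toTwo.com h5 f' hf' x (h.fr.mem_ws_of_col h2.symm)
  exact hne h6

/-- (6) `[W_x, W_{x^{f'}}] = 1` -/
theorem six {f' : G} (hf' : f' ∈ ws V a) : Com V x (f' * x * f'⁻¹) := by
  by_contra hcom
  have hm : Mid T V z x b (f' * x * f'⁻¹) := { h.toTwo with pr := h.bx.symm, rq := h.col_conj hf', ne := hcom }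
  have key : rr V x (f' * x * f'⁻¹) ≤ ws V a ⊓ ws V b := by
    refine (closure_le _).mpr ?_
    rintro _ ⟨w, hw, w', hw', rfl⟩
    have hw'' : f'⁻¹ * w' * f' ∈ ws V x := by
      have := conj_mem_ws f'⁻¹ hw'
      have e : f'⁻¹ * (f' * x * f'⁻¹) * f'⁻¹⁻¹ = x := by group
      rwa [e, inv_inv] at this
    set v := f'⁻¹ * w' * f' with hv
    have e1 : w' = f' * v * f'⁻¹ := by rw [hv]; group
    -- `[v, f'] ∈ W_a`
    have hna : ∀ y ∈ ws V x, ∀ u ∈ ws V a, y * u * y⁻¹ ∈ ws V a := fun y hy u hu =>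
      conj_mem_of_normalizer (centralizer_le_normalizer_ws V a) (mem_centralizer_singleton_iff.mpr (h.xa y hy)) hu
    have he : f' * v * f'⁻¹ * v⁻¹ ∈ ws V a := by
      have e : f' * v * f'⁻¹ * v⁻¹ = f' * (v * f'⁻¹ * v⁻¹) := by group
      rw [e]
      exact mul_mem hf' (hna v hw'' _ (inv_mem hf'))
    set e := f' * v * f'⁻¹ * v⁻¹ with hedef
    have e2 : w' = e * v := by rw [e1, hedef]; group
    have hvw := h.fr.ws_comm h.bx.right v hw'' w hw
    have e3 : w * w' * w⁻¹ * w'⁻¹ = (w * e * w⁻¹) * e⁻¹ := by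
      have hv' : v * w⁻¹ * v⁻¹ = w⁻¹ := by
        rw [(inv_comm_of hvw.symm).symm, mul_inv_cancel_right]
      calc w * w' * w⁻¹ * w'⁻¹ = w * e * (v * w⁻¹ * v⁻¹) * e⁻¹ := by rw [e2]; group
        _ = _ := by rw [hv']
    have h1 : w * w' * w⁻¹ * w'⁻¹ ∈ ws V a := by
      rw [e3]
      exact mul_mem (hna w hw e he) (inv_mem he)
    have h2 := hm.comm_mem hw hw'
    refine ⟨h1, h.mem_b_of_comm h2.1 ?_⟩
    exact h.fr.ws_comm h.pr.left _ h1 f h.fm
  have h1 := hm.mem_of_inner h.nb (key.trans inf_le_right)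
  exact h.not_mem' (key h1).1

/-- (6) `[W_x, W_a] ≤ W_a ∩ W_r` -/
theorem six' {f' y : G} (hf' : f' ∈ ws V a) (hy : y ∈ ws V x) : y * f' * y⁻¹ * f'⁻¹ ∈ ws V a ⊓ ws V r := by
  have hna : y * f' * y⁻¹ ∈ ws V a :=
    conj_mem_of_normalizer (centralizer_le_normalizer_ws V a) (mem_centralizer_singleton_iff.mpr (h.xa y hy)) hf'
  refine h.mem_of_comm (mul_mem hna (inv_mem hf')) fun w hw => ?_
  have h1 := h.six hf' w hw (f' * y⁻¹ * f'⁻¹) (conj_mem_ws f' (inv_mem hy))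
  have h2 := h.fr.ws_comm h.bx.right w hw y hy
  have e : y * f' * y⁻¹ * f'⁻¹ = y * (f' * y⁻¹ * f'⁻¹) := by group
  rw [e]
  exact comm_mul_of h2 h1

/-! ### (7) -/

/-- `W_x ∩ W_{x^f} = C_{W_x}(f)` -/
theorem inf_eq : ws V x ⊓ ws V (f * x * f⁻¹) = ws V x ⊓ centralizer ({f} : Set G) := by
  have h1 := fix_le V x f
  have hxn : x ∉ ws V x ⊓ ws V (f * x * f⁻¹) := by
    rintro ⟨-, h2⟩
    have h3 : Col V (f * x * f⁻¹) x := tri h.fr (h.col_conj h.fm) h.bx h2
    have h4 : f * x * f⁻¹ ∈ ws V x := h.fr.mem_ws_of_col h3.symm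
    refine h.five h.fm (fun e => h.xf (by rw [e, mul_inv_cancel_right])) ?_
    have e : x * f * x⁻¹ * f⁻¹ = x * (f * x * f⁻¹)⁻¹ := by group
    rw [e]
    exact mul_mem (h.fr.mem_ws_self h.bx.right) (inv_mem h4)
  have h2 : ws V x ⊓ ws V (f * x * f⁻¹) < ws V b ⊓ ws V x := by
    refine lt_of_le_of_ne (le_inf h.D inf_le_left) fun e => hxn ?_
    rw [e]
    exact ⟨h.x_mem_b, h.fr.mem_ws_self h.bx.right⟩
  have h3 := two_mul_relIndex_le h2 inf_le_right
  have h4 := relIndex_mul_relIndex _ _ _ h1 (inf_le_left : ws V x ⊓ ws V (f * x * f⁻¹) ≤ ws V x)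
  rw [h.one.2.2.2] at h4
  have p1 : 0 < (ws V x ⊓ centralizer ({f} : Set G)).relIndex (ws V x ⊓ ws V (f * x * f⁻¹)) :=
    Nat.pos_of_ne_zero index_ne_zero_of_finite
  have p2 : 0 < (ws V x ⊓ ws V (f * x * f⁻¹)).relIndex (ws V x) := Nat.pos_of_ne_zero index_ne_zero_of_finite
  have h5 : (ws V x ⊓ centralizer ({f} : Set G)).relIndex (ws V x ⊓ ws V (f * x * f⁻¹)) = 1 := by
    rw [← h4] at h3
    have h6 : (ws V x ⊓ centralizer ({f} : Set G)).relIndex (ws V x ⊓ ws V (f * x * f⁻¹)) *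
        (ws V x ⊓ ws V (f * x * f⁻¹)).relIndex (ws V x) ≤ 1 * (ws V x ⊓ ws V (f * x * f⁻¹)).relIndex (ws V x) := by
      rw [one_mul]
      exact h3
    have := Nat.le_of_mul_le_mul_right h6 p2
    omega
  exact le_antisymm (relIndex_eq_one.mp h5) h1

theorem card_ws (hp : Col V p p) (hq : Col V q q) : Nat.card (ws V p) = Nat.card (ws V q) := by
  obtain ⟨g, hg⟩ := h.fr.exists_conj hp hq
  rw [← hg, ← cj_ws, card_cj]

/-- (7) `|W_x ∩ W_r| ≤ |C_{W_x}(f)|` -/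
theorem seven : Nat.card (ws V x ⊓ ws V r : Subgroup G) ≤
    Nat.card (ws V x ⊓ centralizer ({f} : Set G) : Subgroup G) := by
  have hn1 : ws V r ≤ normalizer ((ws V x : Subgroup G) : Set G) := by
    refine le_normalizer_of_forall fun y hy w hw => ?_
    rw [← h.com w hw y hy, mul_inv_cancel_right]
    exact hw
  have hn2 : ws V (f * x * f⁻¹) ≤ normalizer ((ws V x : Subgroup G) : Set G) := by
    refine le_normalizer_of_forall fun y hy w hw => ?_
    rw [← h.six h.fm w hw y hy, mul_inv_cancel_right]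
    exact hw
  have e1 := card_sup_mul hn1
  have e2 := card_sup_mul hn2
  have hle : ws V x ⊔ ws V (f * x * f⁻¹) ≤ ws V x ⊔ ws V r := by
    refine sup_le le_sup_left fun y hy => ?_
    have hy' : f⁻¹ * y * f ∈ ws V x := by
      have := conj_mem_ws f⁻¹ hy
      have e : f⁻¹ * (f * x * f⁻¹) * f⁻¹⁻¹ = x := by group
      rwa [e, inv_inv] at this
    have h1 := (h.six' h.fm hy').2
    have e : y = (f⁻¹ * y * f * f * (f⁻¹ * y * f)⁻¹ * f⁻¹)⁻¹ * (f⁻¹ * y * f) := by group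
    rw [e]
    exact mul_mem (mem_sup_right (inv_mem h1)) (mem_sup_left hy')
  have hc := Subgroup.card_le_of_le hle
  rw [h.inf_eq] at e2
  have c1 := h.card_ws h.bx.right h.pr.right
  have c2 := h.card_ws h.bx.right (h.col_conj h.fm).right
  rw [← c1] at e1
  rw [← c2] at e2
  have p1 : 0 < Nat.card (ws V x ⊔ ws V (f * x * f⁻¹) : Subgroup G) := Nat.card_pos
  refine Nat.le_of_mul_le_mul_left ?_ p1
  rw [e2, ← e1]
  exact Nat.mul_le_mul_right _ hc

/-! ### (8) -/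

/-- an element of `⟨x, x₁⟩ N_b` -/
theorem mem_cl {x₁ v : G} (hx₁ : Col V b x₁) (hv : v ∈ closure {x, x₁} ⊔ nn (ws V b) (kq V b)) :
    ∃ i ∈ zpowers x, ∃ j ∈ zpowers x₁, ∃ e ∈ zpowers b, v = i * j * e := by
  have hb := h.rq.right
  have hcomm := h.fr.ws_comm hb
  have hx1 : x₁ ∈ ws V b := h.fr.mem_ws_of_col hx₁
  have hcl : closure {x, x₁} ≤ ws V b := by
    rw [closure_le]
    rintro y (rfl | rfl)
    · exact h.x_mem_b
    · exact hx1
  obtain ⟨s, hs, n, hn, rfl⟩ := mem_sup_of_comm hcomm hcl inf_le_left hv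
  have hle : closure {x, x₁} ≤ zpowers x ⊔ zpowers x₁ := by
    rw [closure_le]
    rintro y (rfl | rfl)
    · exact mem_sup_left (mem_zpowers _)
    · exact mem_sup_right (mem_zpowers _)
  obtain ⟨i, hi, j, hj, rfl⟩ := mem_sup_of_comm hcomm (zpowers_le.mpr h.x_mem_b) (zpowers_le.mpr hx1) (hle hs)
  exact ⟨i, hi, j, hj, n, h.nb b hb hn, rfl⟩

/-- (8), the end: a point `c = c'` or `b c'`, `c' = [x, f₁]`, `c ~ b`, `[W_x, W_c] = 1`, gives `|W_x ∩ W_c| ≤ |C_{W_x}(f)|` -/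
theorem eight_aux {c c' : G} (hc' : c' ∈ rr V a b) (hcx : c' ∉ ws V x) (hcc : c = c' ∨ c = b * c')
    (hbc : Col V b c) (hcom : Com V x c) : Nat.card (ws V x ⊓ ws V c : Subgroup G) ≤
      Nat.card (ws V x ⊓ centralizer ({f} : Set G) : Subgroup G) := by
  have hc1 := h.rr_le hc'
  have hc2 := h.rr_le_r hc'
  have hbb := h.fr.pt_sq h.bx.left
  have hbW : b ∈ ws V x := h.fr.mem_ws_of_col h.bx.symm
  -- it is enough to treat `c = c'`
  have key : Col V b c' → Com V x c' → Nat.card (ws V x ⊓ ws V c' : Subgroup G) ≤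
      Nat.card (ws V x ⊓ centralizer ({f} : Set G) : Subgroup G) := by
    intro h1 h2
    have h4 : Col V r c' := tri h.fr h.rq.symm h1 hc2.2
    have h5 : Col V a c' := tri h.fr h.pr.symm h4 hc2.1
    have hB : Bt T V z a c' b x f :=
      { h.toTwo with
        pr := h5
        rq := h1.symm
        ne := h.ne
        bx := h.bx
        fm := h.fm
        xf := h.xf
        D := h.D
        com := h2
        no := h.no }
    exact hB.seven
  rcases hcc with rfl | rfl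
  · exact key hbc hcom
  · have hbx1 : b * c' ≠ b := by
      intro e
      rw [mul_eq_left] at e
      exact hcx (e ▸ one_mem _)
    have h1 : Col V b c' := by
      have := col_mul h.fr hbc (Ne.symm hbx1)
      rwa [← mul_assoc, hbb, one_mul] at this
    -- a mover
    have hnm : b * c' ∉ closure {x} ⊔ nn (ws V b) (kq V b) := by
      intro hm
      have hle : closure {x} ⊔ nn (ws V b) (kq V b) ≤ ws V x := by
        refine sup_le ((closure_le _).mpr ?_) ((h.nb b h.rq.right).trans (zpowers_le.mpr hbW))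
        rintro y rfl
        exact h.fr.mem_ws_self h.bx.right
      have h2 := mul_mem hbW (hle hm)
      rw [← mul_assoc, hbb, one_mul] at h2
      exact hcx h2
    have hclx : closure {x} ≤ ws V b := by
      rw [closure_le]
      rintro y rfl
      exact h.x_mem_b
    obtain ⟨k, hk, hkx, hkc⟩ := (h.fr.dw h.rq.right).exists_mover (U := closure {x}) hclx
      (h.fr.mem_ws_of_col hbc) hnm
    have hkx' := hkx x (subset_closure rfl)
    have e1 : k * (b * c') * k⁻¹ = c' := by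
      rw [hkc, ← mul_assoc, hbb, one_mul]
    have e2 : k * x * k⁻¹ = x := by rw [hkx', mul_inv_cancel_right]
    have h2 : Com V x c' := by
      have := hcom.conj k
      rwa [e1, e2] at this
    have h3 : cj k (ws V x ⊓ ws V (b * c')) = ws V x ⊓ ws V c' := by
      unfold cj
      rw [map_inf _ _ _ (MulAut.conj k).injective]
      change cj k (ws V x) ⊓ cj k (ws V (b * c')) = _
      rw [cj_ws, cj_ws, e1, e2]
    have h4 := key h1 h2
    rwa [← h3, card_cj] at h4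

/-- **(8)** -/
theorem eight {w₀ f₁ : G} (hw : w₀ ∈ ws V x) (hwk : w₀ ∈ kq V a) (hwf : w₀ * f ≠ f * w₀) (hf₁ : f₁ ∈ ws V a)
    (hwf₁ : w₀ * f₁ = f₁ * w₀) : f₁ * x = x * f₁ := by
  by_contra hne
  set J := ws V x ⊓ centralizer ({f} : Set G) with hJ
  set L := ws V x ⊓ kq V a with hL
  -- `L ≤ C(f₁)`
  have hff : ∀ y ∈ L, y * f₁ = f₁ * y := by
    intro y hy
    by_cases hyf : y * f = f * y
    · exact (mem_centralizer_iff.mp (h.cent_of_comm hy.1 hyf) f₁ hf₁).symm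
    · -- `w₀⁻¹ y` commutes with `f`
      have c1 : ∀ v ∈ kq V a, v * f ≠ f * v → v * f * v⁻¹ = a * f := fun v hv hvf =>
        (h.fr.kq_cases' h.pr.left hv h.fm).resolve_left fun e => hvf (comm_of_conj_eq e)
      have e1 := c1 y hy.2 hyf
      have e2 := c1 w₀ hwk hwf
      have h1 : w₀⁻¹ * y * f = f * (w₀⁻¹ * y) := by
        apply comm_of_conj_eq
        calc w₀⁻¹ * y * f * (w₀⁻¹ * y)⁻¹ = w₀⁻¹ * (y * f * y⁻¹) * w₀ := by group
          _ = w₀⁻¹ * (w₀ * f * w₀⁻¹) * w₀ := by rw [e1, e2]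
          _ = f := by group
      have h2 : w₀⁻¹ * y ∈ ws V x := mul_mem (inv_mem hw) hy.1
      have h3 := (mem_centralizer_iff.mp (h.cent_of_comm h2 h1) f₁ hf₁).symm
      have e : y = w₀ * (w₀⁻¹ * y) := by group
      rw [e]
      exact mul_comm_of hwf₁ h3
  set x₁ := f₁ * x * f₁⁻¹ with hx₁
  have hbx₁ : Col V b x₁ := h.col_conj hf₁
  have hLX : L ≤ ws V x ⊓ ws V x₁ := by
    intro y hy
    exact fix_le V x f₁ ⟨hy.1, mem_centralizer_singleton_iff.mpr (hff y hy)⟩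
  set c' := x * f₁ * x⁻¹ * f₁⁻¹ with hc'
  have hc'x : c' ∉ ws V x := h.five hf₁ hne
  have hc'D : c' ∈ rr V a b := h.comm_mem_rr' hf₁
  have hc'b : c' ∈ ws V b := (h.rr_le hc'D).2
  have hxx : x * x = 1 := h.fr.pt_sq h.bx.right
  have hbb : b * b = 1 := h.fr.pt_sq h.bx.left
  have hx₁x₁ : x₁ * x₁ = 1 := h.fr.pt_sq hbx₁.right
  have hcx : c' = x * x₁ := by
    have : c' = x * x₁⁻¹ := by rw [hc', hx₁]; group
    rw [this, inv_eq_self hx₁x₁]
  have hcomm := h.fr.ws_comm h.rq.right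
  have hx₁b : x₁ ∈ ws V b := h.fr.mem_ws_of_col hbx₁
  have hxb := h.x_mem_b
  have hbW : b ∈ ws V x := h.fr.mem_ws_of_col h.bx.symm
  have hbb' : b ∈ ws V b := h.fr.mem_ws_self h.rq.right
  -- `u ∈ C_G(W_x)` moving `c'` modulo `b`
  obtain ⟨u, hu, huc⟩ : ∃ u ∈ centralizer (ws V x : Set G), u * c' * u⁻¹ * c'⁻¹ ∉ zpowers b := by
    by_contra hcon
    push Not at hcon
    exact hc'x (h.mem_of_cent h.bx (Ne.symm h.ne_xb) hc'b hcon)
  have hux : u * x * u⁻¹ = x := by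
    rw [← mem_centralizer_iff.mp hu x (h.fr.mem_ws_self h.bx.right), mul_inv_cancel_right]
  have hub : u * b * u⁻¹ = b := by
    rw [← mem_centralizer_iff.mp hu b hbW, mul_inv_cancel_right]
  have hux₁ : Col V b (u * x₁ * u⁻¹) := by
    have := hbx₁.conj u
    rwa [hub] at this
  -- LEMMA D
  rcases h.fr.lemD h.bx hbx₁ h.ne_xb (by
    intro e
    have h1 : Com V b b := h.toTwo.mn 0 (by omega) b b (Pth.zero h.bx.left)
    -- `x₁ = b` gives `c' = x b ∈ W_x`
    rw [e] at hcx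
    exact hc'x (by rw [hcx]; exact mul_mem (h.fr.mem_ws_self h.bx.right) hbW)) with hA | hB
  · have h1 := hA (hLX ⟨hw, hwk⟩)
    exact hwf ((mem_centralizer_iff.mp (h.cent_of_kq h1 hwk) f h.fm).symm)
  · obtain ⟨i, hi, j, hj, e, he, heq⟩ := h.mem_cl hbx₁ (hB u (mem_sup_left hu)).2
    have hbu : ∀ y ∈ zpowers b, u * y * u⁻¹ = y := fun y hy =>
      conj_zpowers_of_comm (by
        calc u * b = u * b * u⁻¹ * u := by group
          _ = b * u := by rw [hub]) hy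
    -- `u c' u⁻¹ = x (u x₁ u⁻¹)`
    have hcu : u * c' * u⁻¹ = x * (u * x₁ * u⁻¹) := by
      calc u * c' * u⁻¹ = (u * x * u⁻¹) * (u * x₁ * u⁻¹) := by rw [hcx]; group
        _ = x * (u * x₁ * u⁻¹) := by rw [hux]
    have hbx : zpowers b ≤ ws V b := zpowers_le.mpr hbb'
    have hfin : u * x₁ * u⁻¹ = c' * e := by
      rcases (mem_zpowers_iff_of_mul_self hx₁x₁).mp hj with ej | ej
      · -- `j = 1`
        exfalso
        rw [ej, mul_one] at heq
        have h1 : u * x₁ * u⁻¹ ∈ ws V x := by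
          rw [heq]
          exact mul_mem (zpowers_le.mpr (h.fr.mem_ws_self h.bx.right) hi) (zpowers_le.mpr hbW he)
        have h2 : x₁ ∈ ws V x := by
          have h3 := mem_centralizer_iff.mp hu _ h1
          have h4 : u * x₁ * u⁻¹ = x₁ := by
            have h5 : u * x₁ * u⁻¹ * u = u * (u * x₁ * u⁻¹) := h3
            have h6 : u * x₁ = u * (u * x₁ * u⁻¹) := by rw [← h5]; group
            exact (mul_left_cancel h6).symm
          rwa [h4] at h1
        exact hc'x (by rw [hcx]; exact mul_mem (h.fr.mem_ws_self h.bx.right) h2)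
      · rw [ej] at heq
        rcases (mem_zpowers_iff_of_mul_self hxx).mp hi with ei | ei
        · exfalso
          rw [ei, one_mul] at heq
          apply huc
          rw [hcu, heq]
          have e5 : x * (x₁ * e) * c'⁻¹ = e := by
            rw [← mul_assoc, ← hcx, hcomm c' hc'b e (hbx he), mul_inv_cancel_right]
          rw [e5]
          exact he
        · rw [heq, ei, hcx]
    -- the point `c = u x₁ u⁻¹ ∈ {c', b c'}`
    have hcc : u * x₁ * u⁻¹ = c' ∨ u * x₁ * u⁻¹ = b * c' := by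
      rcases (mem_zpowers_iff_of_mul_self hbb).mp he with ee | ee
      · left; rw [hfin, ee, mul_one]
      · right; rw [hfin, ee, hcomm c' hc'b b hbb']
    have hcomc : Com V x (u * x₁ * u⁻¹) := by
      have := (h.six hf₁).conj u
      rwa [hux] at this
    have h1 := h.eight_aux hc'D hc'x hcc hux₁ hcomc
    -- `L ≤ W_x ∩ W_c`
    have h2 : L ≤ ws V x ⊓ ws V (u * x₁ * u⁻¹) := by
      intro y hy
      refine ⟨hy.1, ?_⟩
      have h3 := conj_mem_ws u (hLX hy).2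
      rwa [← mem_centralizer_iff.mp hu y hy.1, mul_inv_cancel_right] at h3
    have h3 := Subgroup.card_le_of_le h2
    have h4 : Nat.card L = 2 * Nat.card (ws V x ⊓ centralizer ({f} : Set G) : Subgroup G) := h.card_L
    have h5 : 0 < Nat.card (ws V x ⊓ centralizer ({f} : Set G) : Subgroup G) := Nat.card_pos
    omega

end Bt

end Cfsg.Agent.Omega.NO3S.TwoMid.Beta

end
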